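import Mathlib
import Cfsg.Agent.Lib.Helper12.OHyp.ExDefs
import Cfsg.Agent.Lib.Helper99.Quad2

/-!
# Project OHYP (S5992), package [ESIM] of the [EXIST] cut

Over a finite field of odd characteristic any two nondegenerate quadratic forms of the same odd
dimension are similar.
-/

set_option autoImplicit false
open QuadraticMap

namespace Cfsg.Agent.Lib.Helper32.OHyp

universe u

section tools

variable {F : Type u} [Field F]

/-- A nondegenerate quadratic form given as a function is a `QuadraticForm` with nondegenerate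
polar form. -/
theorem exists_qf {ι : Type} {Q : (ι → F) → F}
    (hQ : Cfsg.Geo.IsNondegenerateQuadraticForm Q) :
    ∃ Q' : QuadraticForm F (ι → F), ⇑Q' = Q ∧ (QuadraticMap.polarBilin Q').Nondegenerate := by
  refine ⟨QuadraticMap.ofPolar Q (fun a x => by rw [hQ.smul, smul_eq_mul, pow_two])
    (fun x x' y => hQ.polar_bilinear.add_left x x' y)
    (fun a x y => by rw [hQ.polar_bilinear.smul_left, smul_eq_mul]), rfl, ?_, ?_⟩
  · intro x hx
    by_contra hx0
    obtain ⟨y, hy⟩ := (hQ.nondegenerate x hx0).2
    exact hy (hx y)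
  · intro y hy
    by_contra hy0
    obtain ⟨x, hx⟩ := (hQ.nondegenerate y hy0).1
    exact hx (hy x)

theorem exists_sq_add_sq_eq [Fintype F] (h2 : (2 : F) ≠ 0) (μ : F) :
    ∃ x y : F, x ^ 2 + y ^ 2 = μ := by
  have hF : ringChar F ≠ 2 := by
    intro h
    apply h2
    have := CharP.cast_eq_zero F (ringChar F)
    rw [h] at this
    exact_mod_cast this
  have hodd : Fintype.card F % 2 = 1 := FiniteField.odd_card_of_char_ne_two hF
  obtain ⟨x, y, h⟩ := FiniteField.exists_root_sum_quadratic (f := Polynomial.X ^ 2)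
    (g := Polynomial.X ^ 2 - Polynomial.C μ) (Polynomial.degree_X_pow 2)
    (Polynomial.degree_X_pow_sub_C (by decide) _) hodd
  refine ⟨x, y, ?_⟩
  simp only [Polynomial.eval_pow, Polynomial.eval_X, Polynomial.eval_sub, Polynomial.eval_C] at h
  linear_combination h

variable {V : Type*} [AddCommGroup V] [Module F V]

/-- rotate the pairs `(u (inl j), u (inr j))` by the matrix `[[s, t], [-t, s]]`. -/
def rot {m : ℕ} (s t : F) (u : Option (Fin m ⊕ Fin m) → V) : Option (Fin m ⊕ Fin m) → V
  | none => u none
  | some (Sum.inl j) => s • u (some (Sum.inl j)) + t • u (some (Sum.inr j))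
  | some (Sum.inr j) => (-t) • u (some (Sum.inl j)) + s • u (some (Sum.inr j))

theorem rot_none {m : ℕ} (s t : F) (u : Option (Fin m ⊕ Fin m) → V) :
    rot s t u none = u none := rfl

theorem rot_inl {m : ℕ} (s t : F) (u : Option (Fin m ⊕ Fin m) → V) (j : Fin m) :
    rot s t u (some (Sum.inl j)) = s • u (some (Sum.inl j)) + t • u (some (Sum.inr j)) := rfl

theorem rot_inr {m : ℕ} (s t : F) (u : Option (Fin m ⊕ Fin m) → V) (j : Fin m) :
    rot s t u (some (Sum.inr j)) = (-t) • u (some (Sum.inl j)) + s • u (some (Sum.inr j)) := rfl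

theorem rot_props (Q : QuadraticForm F V) {m : ℕ} (u : Option (Fin m ⊕ Fin m) → V)
    (hN : ∀ x, Q (u (some x)) = 1) (hO : ∀ x y, x ≠ y → polar Q (u x) (u y) = 0) (s t : F) :
    Q (rot s t u none) = Q (u none) ∧ (∀ x, Q (rot s t u (some x)) = s ^ 2 + t ^ 2) ∧
      ∀ x y, x ≠ y → polar Q (rot s t u x) (rot s t u y) = 0 := by
  have hT : ∀ x y, polar Q (u x) (u y) = if x = y then 2 * Q (u x) else 0 := by
    intro x y
    by_cases h : x = y
    · subst h
      rw [if_pos rfl, QuadraticMap.polar_self]
      simp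
    · rw [if_neg h, hO x y h]
  refine ⟨rfl, ?_, ?_⟩
  · rintro (j | j)
    · rw [rot_inl, QuadraticMap.map_add (⇑Q), QuadraticMap.map_smul, QuadraticMap.map_smul,
        QuadraticMap.polar_smul_left, QuadraticMap.polar_smul_right, hN, hN,
        hO _ _ (by simp)]
      simp only [smul_eq_mul]
      ring
    · rw [rot_inr, QuadraticMap.map_add (⇑Q), QuadraticMap.map_smul, QuadraticMap.map_smul,
        QuadraticMap.polar_smul_left, QuadraticMap.polar_smul_right, hN, hN,
        hO _ _ (by simp)]
      simp only [smul_eq_mul]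
      ring
  · intro x y hxy
    rcases x with _ | (j | j) <;> rcases y with _ | (j' | j')
    · exact absurd rfl hxy
    · simp [rot_none, rot_inl, QuadraticMap.polar_add_right, QuadraticMap.polar_smul_right, hT]
    · simp [rot_none, rot_inr, QuadraticMap.polar_add_right, QuadraticMap.polar_smul_right, hT]
    · simp [rot_none, rot_inl, QuadraticMap.polar_add_left, QuadraticMap.polar_smul_left, hT]
    · have hjj : j ≠ j' := fun h => hxy (by rw [h])
      simp [rot_inl, QuadraticMap.polar_add_left, QuadraticMap.polar_smul_left,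
        QuadraticMap.polar_add_right, QuadraticMap.polar_smul_right, hT, hjj]
    · simp only [rot_inl, rot_inr, QuadraticMap.polar_add_left, QuadraticMap.polar_smul_left,
        QuadraticMap.polar_add_right, QuadraticMap.polar_smul_right, hT, hN, smul_eq_mul,
        Option.some.injEq, Sum.inl.injEq, Sum.inr.injEq, reduceCtorEq, if_false]
      split_ifs <;> ring
    · simp [rot_none, rot_inr, QuadraticMap.polar_add_left, QuadraticMap.polar_smul_left, hT]
    · simp only [rot_inl, rot_inr, QuadraticMap.polar_add_left, QuadraticMap.polar_smul_left,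
        QuadraticMap.polar_add_right, QuadraticMap.polar_smul_right, hT, hN, smul_eq_mul,
        Option.some.injEq, Sum.inl.injEq, Sum.inr.injEq, reduceCtorEq, if_false]
      split_ifs <;> ring
    · have hjj : j ≠ j' := fun h => hxy (by rw [h])
      simp [rot_inr, QuadraticMap.polar_add_left, QuadraticMap.polar_smul_left,
        QuadraticMap.polar_add_right, QuadraticMap.polar_smul_right, hT, hjj]

end tools

/-- **[ESIM]** -/
theorem pkgESim : Cfsg.Agent.Lib.Helper12.OHyp.PkgESim.{u} := by
  intro F _ _ ι ι' _ _ _ _ Q Q' hQ hQ' h2 hodd hcard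
  classical
  obtain ⟨Qf, hQf, hQnd⟩ := exists_qf hQ
  obtain ⟨Qf', hQf', hQnd'⟩ := exists_qf hQ'
  have hfr : Module.finrank F (ι → F) = Fintype.card ι := Module.finrank_fintype_fun_eq_card F
  have hfr' : Module.finrank F (ι' → F) = Fintype.card ι' := Module.finrank_fintype_fun_eq_card F
  have hpos : 0 < Module.finrank F (ι → F) := by rw [hfr]; exact hodd.pos
  have hpos' : 0 < Module.finrank F (ι' → F) := by rw [hfr', ← hcard]; exact hodd.pos
  obtain ⟨k, b, hb0, hb1, hbo⟩ := Cfsg.Agent.Lib.Helper99.ortho_basis h2 Qf hQnd hpos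
  obtain ⟨k', b', hb0', hb1', hbo'⟩ := Cfsg.Agent.Lib.Helper99.ortho_basis h2 Qf' hQnd' hpos'
  have hk : Fintype.card ι = k + 1 := by
    rw [← hfr, Module.finrank_eq_card_basis b, Fintype.card_fin]
  have hk' : Fintype.card ι' = k' + 1 := by
    rw [← hfr', Module.finrank_eq_card_basis b', Fintype.card_fin]
  have hkk : k' = k := by omega
  subst hkk
  obtain ⟨m, hm⟩ : ∃ m, k' = m + m := by
    rw [hk] at hodd
    rcases Nat.even_or_odd k' with h | h
    · exact h
    · exact absurd hodd (Nat.not_odd_iff_even.2 h.add_one)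
  subst hm
  -- reindex by `Option (Fin m ⊕ Fin m)`
  let e0 : Fin (m + m + 1) ≃ Option (Fin m ⊕ Fin m) :=
    (finSuccEquiv (m + m)).trans (Equiv.optionCongr finSumFinEquiv.symm)
  have he0n : e0.symm none = 0 := by
    simp [e0]
  have he0s : ∀ x : Fin m ⊕ Fin m, e0.symm (some x) = (finSumFinEquiv x).succ := by
    intro x
    simp [e0]
  let bR : Module.Basis (Option (Fin m ⊕ Fin m)) F (ι → F) := b.reindex e0
  have hbR : ∀ i, bR i = b (e0.symm i) := fun i => Module.Basis.reindex_apply b e0 i
  let u' : Option (Fin m ⊕ Fin m) → (ι' → F) := fun i => b' (e0.symm i)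
  have hu'N : ∀ x, Qf' (u' (some x)) = 1 := by
    intro x
    show Qf' (b' (e0.symm (some x))) = 1
    rw [he0s]
    exact hb1' _
  have hu'O : ∀ x y, x ≠ y → polar Qf' (u' x) (u' y) = 0 := by
    intro x y hxy
    exact hbo' _ _ (fun h => hxy (e0.symm.injective h))
  set a : F := Qf (b 0) with ha
  set a' : F := Qf' (b' 0) with ha'
  obtain ⟨s, t, hst⟩ := exists_sq_add_sq_eq h2 (a' / a)
  obtain ⟨hw0, hwN, hwO⟩ := rot_props Qf' u' hu'N hu'O s t
  have hu'0 : Qf' (u' none) = a' := by
    show Qf' (b' (e0.symm none)) = a'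
    rw [he0n]
  let eL : (ι → F) →ₗ[F] (ι' → F) := bR.constr F (rot s t u')
  have heL : ∀ i, eL (bR i) = rot s t u' i := fun i => Module.Basis.constr_basis bR F _ i
  have hc : a / a' ≠ 0 := div_ne_zero hb0 hb0'
  have hQeq : Qf = (a / a') • Qf'.comp eL := by
    apply Cfsg.Agent.Lib.Helper99.quad_ext_basis bR
    · intro i
      rw [smul_apply, QuadraticMap.comp_apply, heL, hbR, smul_eq_mul]
      rcases i with _ | x
      · rw [he0n, hw0, hu'0, ← ha]
        field_simp
      · rw [he0s, hb1, hwN, hst]
        field_simp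
    · intro i j hij
      have h1 : polar Qf (bR i) (bR j) = 0 := by
        rw [hbR, hbR]
        exact hbo _ _ (fun h => hij (e0.symm.injective h))
      have h2' := hwO i j hij
      rw [h1]
      unfold QuadraticMap.polar at h2' ⊢
      simp only [smul_apply, QuadraticMap.comp_apply, map_add, heL, smul_eq_mul]
      linear_combination (-(a / a')) * h2'
  have hQv : ∀ v, Q v = a / a' * Q' (eL v) := by
    intro v
    have h := congrArg (fun q : QuadraticForm F (ι → F) => q v) hQeq
    simp only [smul_apply, QuadraticMap.comp_apply, smul_eq_mul] at h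
    rw [← hQf, ← hQf']
    exact h
  have hinj : Function.Injective eL := by
    rw [← LinearMap.ker_eq_bot, LinearMap.ker_eq_bot']
    intro v hv
    by_contra hv0
    obtain ⟨x, hx⟩ := (hQ.nondegenerate v hv0).2
    apply hx
    unfold QuadraticMap.polar
    rw [hQv, hQv v, hQv x, map_add, hv, zero_add, ← hQf', map_zero]
    ring
  refine ⟨a / a', eL.linearEquivOfInjective hinj (hfr.trans (hcard.trans hfr'.symm)), hc, ?_⟩
  intro v
  rw [LinearMap.linearEquivOfInjective_apply]
  exact hQv v

end Cfsg.Agent.Lib.Helper32.OHyp
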